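import Cfsg.Agent.Lib.Known.RegularTorus

/-!
# Centralisers of sets of torus elements
-/

set_option autoImplicit false

namespace CfsgLib.Lie.SixtyFive

open Cfsg.Lie (ChevalleyDatum)
open CfsgLib.Lie.Chev
open CfsgLib.Known.RegularTorus (conj_oprod)

variable {D : ChevalleyDatum} {X : Aux} {F : Type*} [Field F] {G : Type*} [Group G] (R : Rel D X F G)

/-- A positive unipotent element fixed by torus elements separating all roots from zero is trivial. -/
theorem eq_one_of_fixed_UP {ι : Type*} (t : ι → G) (a : ι → Fin D.nroots → F)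
    (ht : ∀ i, R.IsMon (t i) 1 (a i)) (h1 : ∀ r, ∃ i, a i r ≠ 1) {u : G} (hu : u ∈ R.UP)
    (hfix : ∀ i, t i * u * (t i)⁻¹ = u) : u = 1 := by
  obtain ⟨s, rfl⟩ := R.exists_oprod_UP hu
  have hn := R.cert.nroots_eq
  refine List.prod_eq_one fun x hx => ?_
  obtain ⟨r, hr, rfl⟩ := List.mem_map.1 hx
  rw [List.mem_range'_1] at hr
  have hlt : r < D.nroots := by omega
  obtain ⟨i, hi⟩ := h1 ⟨r, hlt⟩
  have hf := hfix i
  rw [conj_oprod R (ht i) (fun r => if h : r < D.nroots then a i ⟨r, h⟩ else 0)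
    (fun r => by rw [dif_pos r.2]) s _ _ (by omega)] at hf
  have e := R.oprod_inj _ _ _ _ le_rfl (by omega) (congrArg R.θ hf) r hr.1 hr.2
  rw [dif_pos hlt] at e
  have : (a i ⟨r, hlt⟩ - 1) * s r = 0 := by linear_combination e
  rw [(mul_eq_zero.1 this).resolve_left (sub_ne_zero.2 hi), R.xe_zero]

/-- The centraliser of torus elements separating the roots and the Weyl group is the torus. -/
theorem mem_HS_of_forall_commute {ι : Type*} (t : ι → G) (a : ι → Fin D.nroots → F)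
    (htH : ∀ i, t i ∈ R.HS) (ht : ∀ i, R.IsMon (t i) 1 (a i)) (h1 : ∀ r, ∃ i, a i r ≠ 1)
    (hW : ∀ m : R.NS, (∀ i s, a i (R.nsPerm m s) = a i s) → (m : G) ∈ R.HS)
    {g : G} (hg : ∀ i, g * t i = t i * g) : g ∈ R.HS := by
  obtain ⟨b, hb, n, u, hu, rfl⟩ := R.exists_bnu g
  obtain ⟨v, hv, h, hh, rfl⟩ := R.exists_of_mem_BS hb
  have key : ∀ i, t i * v * (t i)⁻¹ = v ∧ t i * u * (t i)⁻¹ = u ∧ (n : G) * t i = t i * n := by
    intro i
    have hk : t i * ((n : G) * (t i)⁻¹ * (n : G)⁻¹) ∈ R.HS :=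
      mul_mem (htH i) ((Subgroup.mem_normalizer_iff.1 (R.NS_le_normalizer_HS n.2) _).1 (inv_mem (htH i)))
    have hv' : t i * v * (t i)⁻¹ ∈ R.UP :=
      (Subgroup.mem_normalizer_iff.1 (R.HS_le_normalizer_US _ (htH i)) v).1 hv
    have hu' : t i * u * (t i)⁻¹ ∈ R.US (invSet (R.nsPerm n)) :=
      (Subgroup.mem_normalizer_iff.1 (R.HS_le_normalizer_US _ (htH i)) u).1 hu
    have hc := R.HS_isMulCommutative hh (htH i)
    have e : (t i * v * (t i)⁻¹ * (h * (t i * ((n : G) * (t i)⁻¹ * (n : G)⁻¹)))) * (n : G) * (t i * u * (t i)⁻¹) =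
        v * h * n * u := by
      calc _ = t i * v * (t i)⁻¹ * (h * t i) * (n : G) * u * (t i)⁻¹ := by group
        _ = t i * (v * h * n * u) * (t i)⁻¹ := by rw [hc]; group
        _ = v * h * n * u := by rw [← hg i, mul_inv_cancel_right]
    obtain ⟨e1, e2⟩ := R.bnu_unique (mul_mem (R.UP_le_BS hv') (R.HS_le_BS (mul_mem hh hk)))
      (mul_mem (R.UP_le_BS hv) (R.HS_le_BS hh)) hu' hu e
    have e3 : v⁻¹ * (t i * v * (t i)⁻¹) = h * (h * (t i * ((n : G) * (t i)⁻¹ * (n : G)⁻¹)))⁻¹ := by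
      rw [eq_mul_inv_iff_mul_eq, mul_assoc, e1, inv_mul_cancel_left]
    have e4 : v⁻¹ * (t i * v * (t i)⁻¹) = 1 :=
      (Subgroup.eq_bot_iff_forall _).1 R.UP_inf_HS _
        (Subgroup.mem_inf.2 ⟨mul_mem (inv_mem hv) hv', e3 ▸ mul_mem hh (inv_mem (mul_mem hh hk))⟩)
    have e5 : t i * ((n : G) * (t i)⁻¹ * (n : G)⁻¹) = 1 := by
      rw [e4, eq_comm, mul_inv_eq_one] at e3
      exact mul_left_cancel (a := h) (by rw [mul_one]; exact e3.symm)
    rw [← mul_assoc, ← mul_assoc, mul_inv_eq_one, mul_inv_eq_iff_eq_mul] at e5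
    exact ⟨(inv_mul_eq_one.1 e4).symm, e2, e5.symm⟩
  rw [eq_one_of_fixed_UP R t a ht h1 hv fun i => (key i).1,
    eq_one_of_fixed_UP R t a ht h1 (R.US_mono (Rel.invSet_subset _) hu) fun i => (key i).2.1, one_mul, mul_one]
  refine mul_mem hh (hW n fun i s => ?_)
  obtain ⟨b, hb⟩ := R.isMon_nsPerm n
  have h1' := R.isMon_mul (R.isMon_mul hb (ht i)) (R.isMon_inv hb)
  rw [mul_one, mul_inv_cancel, (key i).2.2, mul_inv_cancel_right] at h1'
  obtain ⟨r, hr⟩ : ∃ r, r = R.nsPerm n s := ⟨_, rfl⟩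
  have e := congrFun (R.isMon_unique h1' (ht i)).2 r
  have hs : (R.nsPerm n)⁻¹ r = s := by rw [hr, Equiv.Perm.inv_def, Equiv.symm_apply_apply]
  simp only [Equiv.Perm.one_apply, hs] at e
  rw [mul_comm (b s), mul_assoc, mul_inv_cancel₀ (hb s).1, mul_one] at e
  rw [← hr]
  exact e.symm

end CfsgLib.Lie.SixtyFive
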