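import Cfsg.Agent.Lib.Lie.SixtyFive.Main
import Cfsg.Agent.Lib.Known.Homocyclic.Types

/-!
# The seven-dimensional exceptional datum over two elements
-/

set_option autoImplicit false
set_option maxHeartbeats 800000

namespace CfsgLib.Lie.SixtyFive

open Cfsg.Lie (ChevalleyDatum chevE7)
open CfsgLib.Lie.Chev
open CfsgLib.Known.CyclicTorus (cvec)

/-- An inverse of the Cartan matrix of type E₇ modulo five. -/
def invE7 : Fin 7 → Fin 7 → ℤ := fun a i =>
  (([[2, 2, 3, 4, 3, 2, 1], [2, 1, 4, 1, 2, 3, 4], [3, 4, 1, 3, 1, 4, 2], [4, 1, 3, 2, 4, 1, 3],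
    [3, 2, 1, 4, 0, 0, 0], [2, 3, 4, 1, 0, 4, 2], [1, 4, 2, 3, 0, 2, 4]] : List (List ℤ)).getD a []).getD i 0

theorem invE7_spec : ∀ a j : Fin 7,
    (∑ i, invE7 a i * ((cartE7.getD i []).getD j 0) - if j = a then 1 else 0) % 5 = 0 := by decide +kernel

theorem sepE7 : ∀ s s' : Fin 126,
    (∀ i, (cvec chevE7 auxE7 s i - cvec chevE7 auxE7 s' i) % 5 = 0) → s = s' := by decide +kernel

theorem nzE7 : ∀ s : Fin 126, ∃ i, ¬ cvec chevE7 auxE7 s i % 5 = 0 := by decide +kernel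

theorem sixtyFiveOK_E7 : SixtyFiveOK chevE7 auxE7 [2, 6, 8, 10, 12, 14, 18] invE7 where
  len := rfl
  rank_le := le_refl 7
  rankOK := CfsgLib.Known.Homocyclic.rankOK_E7
  four := ⟨8, by decide, by decide⟩
  count := by decide
  prime13 := by decide
  inv5 := fun a j => by
    rw [cmat_E7]
    exact Int.dvd_of_emod_eq_zero (invE7_spec a j)
  inj5 := fun s s' h => sepE7 s s' fun i => Int.emod_eq_zero_of_dvd (h i)
  nz5 := fun s => by
    obtain ⟨i, hi⟩ := nzE7 s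
    exact ⟨i, fun h => hi (Int.emod_eq_zero_of_dvd h)⟩

theorem chevE7_two_not_orderOf_sixty_five (z : ↥(chevE7.group (ZMod 2))) : orderOf z ≠ 65 := fun h =>
  not_orderOf_sixty_five certE7 cmat_E7 smithE7 polyE7 (by decide +kernel) sixtyFiveOK_E7 z h

end CfsgLib.Lie.SixtyFive
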