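import Cfsg.Statements.S5769
import Cfsg.Agent.Lib.Known.SL2Factor
import Cfsg.Agent.Lib.Known.FieldExtensionEmbed
import Cfsg.Agent.Lib.Known.SpBounded.Kernel
import Cfsg.Agent.Lib.HallGen.SympSpectrum.Elements
import Cfsg.Agent.Lib.Classical.HalfTorusUnitary

/-!
# Elements of order sixty-five in small classical groups over eight elements
-/

set_option autoImplicit false

namespace CfsgLib.Lie.SixtyFive

open Matrix

theorem orderOf_mk_sixty_five {G : Type*} [Group G] (hc : ∀ c ∈ Subgroup.center G, c ^ 4 = 1) {x : G}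
    (hx : orderOf x = 65) : orderOf (x : G ⧸ Subgroup.center G) = 65 := by
  refine Nat.dvd_antisymm (hx ▸ orderOf_map_dvd (QuotientGroup.mk' (Subgroup.center G)) x) ?_
  have h := pow_orderOf_eq_one (x : G ⧸ Subgroup.center G)
  rw [← QuotientGroup.mk_pow, QuotientGroup.eq_one_iff] at h
  have h4 := hc _ h
  rw [← pow_mul] at h4
  have h5 : 65 ∣ orderOf (x : G ⧸ Subgroup.center G) * 4 := hx ▸ orderOf_dvd_of_pow_eq_one h4
  exact Nat.Coprime.dvd_of_dvd_mul_right (by norm_num) h5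

theorem center_sl_pow {n : ℕ} {F : Type*} [Field F] {c : Matrix.SpecialLinearGroup (Fin n) F}
    (hc : c ∈ Subgroup.center _) {m : ℕ} (hm : n ∣ m) : c ^ m = 1 := by
  obtain ⟨r, hr, hrc⟩ := Matrix.SpecialLinearGroup.mem_center_iff.1 hc
  rw [Fintype.card_fin] at hr
  obtain ⟨k, rfl⟩ := hm
  refine Subtype.ext ?_
  rw [Matrix.SpecialLinearGroup.coe_pow, ← hrc, ← map_pow, pow_mul, hr, one_pow, map_one,
    Matrix.SpecialLinearGroup.coe_one]

/-- The identification of `SL₂` with a symplectic group of rank one. -/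
theorem exists_sl_to_sp (F : Type*) [Field F] :
    ∃ φ : Matrix.SpecialLinearGroup (Fin 2) F →* ↥(Matrix.symplecticGroup (Fin 1) F), Function.Injective φ := by
  obtain ⟨e, he⟩ : ∃ e : Fin 2 ≃ Fin 1 ⊕ Fin 1, e = (finSumFinEquiv (m := 1) (n := 1)).symm := ⟨_, rfl⟩
  have hmem : ∀ A : Matrix.SpecialLinearGroup (Fin 2) F,
      Matrix.reindexAlgEquiv F F e A.1 ∈ Matrix.symplecticGroup (Fin 1) F := by
    intro A
    rw [SymplecticGroup.mem_iff]
    have hdet := A.2
    rw [Matrix.det_fin_two] at hdet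
    have e0 : e.symm (Sum.inl 0) = 0 := by rw [he]; rfl
    have e1 : e.symm (Sum.inr 0) = 1 := by rw [he]; rfl
    ext (i | i) (j | j) <;> fin_cases i <;> fin_cases j <;>
      simp [Matrix.mul_apply, Matrix.J, e0, e1, Matrix.one_apply] <;>
      first | ring1 | linear_combination hdet | linear_combination -hdet
  exact ⟨{ toFun := fun A => ⟨_, hmem A⟩
           map_one' := Subtype.ext (map_one _)
           map_mul' := fun A B => Subtype.ext (map_mul (Matrix.reindexAlgEquiv F F e) A.1 B.1) },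
    fun A B h => Subtype.ext ((Matrix.reindexAlgEquiv F F e).injective (congrArg Subtype.val h))⟩

/-- The symplectic group in dimension four inside the special linear group, over eight elements. -/
theorem exists_sp_to_sl {F : Type*} [Field F] [Fintype F] (h8 : Fintype.card F = 8) :
    ∃ φ : ↥(Matrix.symplecticGroup (Fin 2) F) →* Matrix.SpecialLinearGroup (Fin 4) F, Function.Injective φ := by
  have hdet : ∀ A : ↥(Matrix.symplecticGroup (Fin 2) F), A.1.det = 1 := by
    intro A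
    have h := congrArg Matrix.det (SymplecticGroup.mem_iff.1 A.2)
    rw [det_mul, det_mul, det_transpose] at h
    have h2 : A.1.det ^ 2 = 1 := by
      refine mul_right_cancel₀ (Matrix.isUnit_det_J (Fin 2) F).ne_zero ?_
      rw [one_mul]
      linear_combination h
    have h0 : A.1.det ≠ 0 := fun h0 => by rw [h0] at h2; simp at h2
    have h7 := FiniteField.pow_card_sub_one_eq_one A.1.det h0
    rw [h8] at h7
    calc A.1.det = (A.1.det ^ 2) ^ 4 / A.1.det ^ 7 := by rw [h7, div_one, ← pow_mul, pow_succ, h7, one_mul]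
      _ = 1 := by rw [h2, h7, one_pow, div_one]
  obtain ⟨e, -⟩ : ∃ e : Fin 2 ⊕ Fin 2 ≃ Fin 4, True := ⟨finSumFinEquiv, trivial⟩
  exact ⟨{ toFun := fun A => ⟨Matrix.reindexAlgEquiv F F e A.1, by rw [Matrix.det_reindexAlgEquiv, hdet]⟩
           map_one' := Subtype.ext (map_one _)
           map_mul' := fun A B => Subtype.ext (map_mul (Matrix.reindexAlgEquiv F F e) A.1 B.1) },
    fun A B h => Subtype.ext ((Matrix.reindexAlgEquiv F F e).injective (congrArg Subtype.val h))⟩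

variable {F₈ F₆₄ : Type*} [Field F₈] [Fintype F₈] [Field F₆₄] [Fintype F₆₄]

theorem exists_sl2_sixty_five (h64 : Fintype.card F₆₄ = 64) :
    ∃ x : Matrix.SpecialLinearGroup (Fin 2) F₆₄, orderOf x = 65 := by
  classical
  obtain ⟨p, hp⟩ := CharP.exists F₆₄
  obtain ⟨a, hpp, hq⟩ := FiniteField.card F₆₄ p
  have hp2 : p = 2 := by
    have h : p ∣ 2 ^ 6 := by rw [show (2 : ℕ) ^ 6 = 64 from rfl, ← h64, hq]; exact dvd_pow_self p a.pos.ne'
    exact (Nat.prime_dvd_prime_iff_eq hpp Nat.prime_two).1 (hpp.dvd_of_dvd_pow h)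
  subst hp2
  obtain ⟨A, -, hA, hcard, -⟩ := CfsgLib.Known.SL2Factor.exists_ABA (F := F₆₄)
  obtain ⟨a, ha⟩ := IsCyclic.exists_ofOrder_eq_natCard (α := ↥A)
  exact ⟨a, by rw [Subgroup.orderOf_coe, ha, hcard, h64]⟩

/-- Each of the five groups has an element of order sixty-five. -/
theorem exists_sixty_five (h8 : Fintype.card F₈ = 8) (h64 : Fintype.card F₆₄ = 64) :
    (∃ x : Matrix.ProjectiveSpecialLinearGroup (Fin 2) F₆₄, orderOf x = 65) ∧
    (∃ x : Cfsg.PSp 2 F₈, orderOf x = 65) ∧ (∃ x : Matrix.ProjectiveSpecialLinearGroup (Fin 4) F₈, orderOf x = 65) ∧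
    (∃ x : Cfsg.PSU 4 F₆₄ 8, orderOf x = 65) ∧ (∃ x : Cfsg.PSp 3 F₈, orderOf x = 65) := by
  obtain ⟨x, hx⟩ := exists_sl2_sixty_five h64
  obtain ⟨φ, hφ⟩ := exists_sl_to_sp F₆₄
  obtain ⟨ψ, hψ⟩ := CfsgLib.Known.FieldExtensionEmbed.sp_extension (q := 8) (h64.trans (by norm_num)) h8 1
  obtain ⟨χ, hχ⟩ := exists_sp_to_sl h8
  have h2 : orderOf (ψ (φ x)) = 65 := by rw [orderOf_injective ψ hψ, orderOf_injective φ hφ, hx]
  have hsp : ∀ {m : ℕ}, ∀ c ∈ Subgroup.center ↥(Matrix.symplecticGroup (Fin m) F₈), c ^ 4 = 1 := fun c hc => by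
    rw [show (4 : ℕ) = 2 * 2 from rfl, pow_mul, CfsgLib.HallGen.SympSpectrum.sq_of_mem_center hc, one_pow]
  refine ⟨⟨_, orderOf_mk_sixty_five (fun c hc => center_sl_pow hc (by norm_num)) hx⟩,
    ⟨_, orderOf_mk_sixty_five hsp h2⟩,
    ⟨_, orderOf_mk_sixty_five (x := χ (ψ (φ x))) (fun c hc => center_sl_pow hc dvd_rfl)
      (by rw [orderOf_injective χ hχ, h2])⟩, ?_,
    ⟨_, orderOf_mk_sixty_five (x := CfsgLib.Known.SpBounded.emb 2 F₈ (ψ (φ x))) hsp
      (by rw [orderOf_injective _ CfsgLib.Known.SpBounded.emb_injective, h2])⟩⟩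
  obtain ⟨g, hg⟩ := CfsgLib.Classical.HalfTorus.exists_unitary_torus (F := F₆₄) (k := 2) (q := 8) le_rfl
    (h64.trans (by norm_num))
  have h455 : orderOf g = 455 := by rw [hg]; decide
  exact ⟨g ^ 7, by rw [orderOf_pow' g (by norm_num), h455]; decide⟩

end CfsgLib.Lie.SixtyFive
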