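import Mathlib

/-!
# Integral matrices with a fixed vector modulo thirteen

Elements of order five cannot commute in the averaged sense with a matrix having a primitive twelfth root of unity
as eigenvalue, in dimension at most seven.
-/

set_option autoImplicit false

namespace CfsgLib.Lie.SixtyFive

open Polynomial
open scoped Matrix

/-- An invariant subspace meeting the kernel of an irreducible polynomial has dimension at least its degree. -/
theorem natDegree_le_finrank {V : Type*} [AddCommGroup V] [Module ℚ V] [FiniteDimensional ℚ V] (f : Module.End ℚ V)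
    (U : Submodule ℚ V) (hU : ∀ x ∈ U, f x ∈ U) {Φ : ℚ[X]} (hΦ : Irreducible Φ) {u : V} (hu : u ∈ U) (h0 : u ≠ 0)
    (hΦu : aeval f Φ u = 0) : Φ.natDegree ≤ Module.finrank ℚ U := by
  have hmem : ∀ q : ℚ[X], aeval f q u ∈ U := fun q => aeval_apply_smul_mem_of_le_comap' hu q f hU
  let L : Polynomial.degreeLT ℚ Φ.natDegree →ₗ[ℚ] U :=
    { toFun := fun q => ⟨aeval f (q : ℚ[X]) u, hmem q⟩
      map_add' := fun a b => Subtype.ext (by simp)
      map_smul' := fun c a => Subtype.ext (by simp) }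
  have hL : Function.Injective L := by
    rw [← LinearMap.ker_eq_bot, LinearMap.ker_eq_bot']
    intro q hq
    have hq' : aeval f (q : ℚ[X]) u = 0 := congrArg Subtype.val hq
    by_contra hne
    have hq0 : (q : ℚ[X]) ≠ 0 := fun h => hne (Subtype.ext h)
    have hlt : (q : ℚ[X]).natDegree < Φ.natDegree :=
      (natDegree_lt_iff_degree_lt hq0).2 (mem_degreeLT.1 q.2)
    obtain ⟨a, b, hab⟩ : IsCoprime Φ (q : ℚ[X]) := hΦ.coprime_iff_not_dvd.2 fun hd =>
      absurd (natDegree_le_of_dvd hd hq0) (by omega)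
    refine h0 ?_
    have h := congrArg (fun p => aeval f p u) hab
    simpa [map_add, map_mul, hΦu, hq'] using h.symm
  have h := LinearMap.finrank_le_finrank_of_injective hL
  rwa [(Polynomial.degreeLTEquiv ℚ Φ.natDegree).finrank_eq, Module.finrank_fin_fun] at h

/-- The evaluation of a polynomial at a matrix on an eigenvector. -/
theorem aeval_mulVec_eigen {l p : ℕ} (W : Matrix (Fin l) (Fin l) ℤ) {v : Fin l → ZMod p} {a : ℤ}
    (h : W.map (Int.cast : ℤ → ZMod p) *ᵥ v = (a : ZMod p) • v) (g : ℤ[X]) :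
    (aeval W g).map (Int.cast : ℤ → ZMod p) *ᵥ v = ((g.eval a : ℤ) : ZMod p) • v := by
  obtain ⟨c, hc⟩ : ∃ c : Matrix (Fin l) (Fin l) ℤ →+* Matrix (Fin l) (Fin l) (ZMod p),
      ∀ M, c M = M.map (Int.cast : ℤ → ZMod p) := ⟨(Int.castRingHom (ZMod p)).mapMatrix, fun _ => rfl⟩
  rw [← hc] at h ⊢
  induction g using Polynomial.induction_on with
  | C b =>
    rw [aeval_C, eval_C, Algebra.algebraMap_eq_smul_one, map_zsmul, map_one, Matrix.smul_mulVec, Matrix.one_mulVec,
      Int.cast_smul_eq_zsmul]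
  | add g g' ihg ihg' =>
    rw [map_add, map_add, Matrix.add_mulVec, ihg, ihg', eval_add, Int.cast_add, add_smul]
  | monomial n b ih =>
    rw [pow_succ, ← mul_assoc, map_mul (aeval W) (C b * X ^ n), aeval_X, map_mul, ← Matrix.mulVec_mulVec, h,
      Matrix.mulVec_smul, ih, smul_smul]
    simp only [eval_mul, eval_C, eval_pow, eval_X, Int.cast_mul, Int.cast_pow]
    congr 1
    ring

/-- Main linear algebra step: an averaging matrix fixed by an element of order five excludes an eigenvalue two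
modulo thirteen on a vector on which it acts as a non-zero scalar. -/
theorem false_of_average {l : ℕ} (hl : l ≤ 7) {W W1 P : Matrix (Fin l) (Fin l) ℤ} (h5 : W1 ^ 5 = 1) (h1 : W1 ≠ 1)
    (hW1P : W1 * P = P) (hWP : W * P = P * W) {o : ℕ} (hWo : W ^ o = 1) (ho : ¬ 13 ∣ o)
    {k : Fin l → ZMod 13} (hk0 : k ≠ 0) (hk : W.map (Int.cast : ℤ → ZMod 13) *ᵥ k = (2 : ZMod 13) • k)
    {c : ZMod 13} (hc : c ≠ 0) (hPk : P.map (Int.cast : ℤ → ZMod 13) *ᵥ k = c • k) : False := by
  classical
  have h12 : ((12 : ℕ) : ZMod 13) ≠ 0 := by decide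
  have h2ne : (2 : ZMod 13) ≠ 0 := by decide
  have hprim : IsPrimitiveRoot (2 : ZMod 13) 12 := by
    rw [IsPrimitiveRoot.iff (by norm_num)]
    refine ⟨by decide, fun i hi hi' => ?_⟩
    interval_cases i <;> decide
  have : Fact (Nat.Prime 13) := ⟨by norm_num⟩
  obtain ⟨i0, hi0⟩ := Function.ne_iff.1 hk0
  have hk' : W.map (Int.cast : ℤ → ZMod 13) *ᵥ k = ((2 : ℤ) : ZMod 13) • k := by exact_mod_cast hk
  have ho12 : 12 ∣ o := by
    refine hprim.dvd_of_pow_eq_one o ?_
    have h := aeval_mulVec_eigen W hk' (X ^ o)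
    rw [map_pow, aeval_X, hWo, Matrix.map_one _ Int.cast_zero Int.cast_one, Matrix.one_mulVec, eval_pow, eval_X,
      Int.cast_pow] at h
    have h' := congrFun h i0
    rw [Pi.smul_apply, smul_eq_mul] at h'
    exact_mod_cast (mul_eq_right₀ hi0).1 h'.symm
  -- passage to the rationals
  obtain ⟨f, hf⟩ : ∃ f : Matrix (Fin l) (Fin l) ℤ →+* Module.End ℚ (Fin l → ℚ),
      f = (Matrix.toLinAlgEquiv' (R := ℚ) (n := Fin l)).toRingEquiv.toRingHom.comp
        (Int.castRingHom ℚ).mapMatrix := ⟨_, rfl⟩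
  have hfinj : Function.Injective f := by
    intro A B h
    rw [hf] at h
    refine Matrix.ext fun i j => ?_
    have h' := Matrix.toLinAlgEquiv'.injective h
    exact Int.cast_injective (congrFun (congrFun h' i) j)
  have hfaeval : ∀ (A : Matrix (Fin l) (Fin l) ℤ) (g : ℤ[X]),
      f (aeval A g) = aeval (f A) (g.map (Int.castRingHom ℚ)) := by
    intro A g
    rw [aeval_def, hom_eval₂, aeval_def, eval₂_map]
    congr 1
    exact RingHom.ext_int _ _
  -- the image of the averaging matrix is small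
  have hdeg5 : ((cyclotomic 5 ℤ).map (Int.castRingHom ℚ)).natDegree = 4 := by
    rw [map_cyclotomic_int, natDegree_cyclotomic]; decide
  have hgeo : (cyclotomic 5 ℤ).map (Int.castRingHom ℚ) = ∑ i ∈ Finset.range 5, (X : ℚ[X]) ^ i := by
    have : Fact (Nat.Prime 5) := ⟨by norm_num⟩
    rw [map_cyclotomic_int, cyclotomic_prime]
  obtain ⟨g1, hg1⟩ : ∃ g1, g1 = f W1 := ⟨_, rfl⟩
  obtain ⟨S, hS⟩ : ∃ S : Module.End ℚ (Fin l → ℚ), S = aeval g1 ((cyclotomic 5 ℤ).map (Int.castRingHom ℚ)) :=
    ⟨_, rfl⟩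
  have hS2 : S = ∑ i ∈ Finset.range 5, g1 ^ i := by rw [hS, hgeo]; simp
  have hSg : S * (g1 - 1) = 0 := by
    rw [hS2, geom_sum_mul, hg1, ← map_pow, h5, map_one, sub_self]
  obtain ⟨x, hx⟩ : ∃ x, (g1 - 1) x ≠ 0 := by
    by_contra hno
    push Not at hno
    refine h1 (hfinj ?_)
    rw [map_one, ← hg1]
    exact sub_eq_zero.1 (LinearMap.ext hno)
  have hker : 4 ≤ Module.finrank ℚ ↥(LinearMap.ker S) := by
    rw [← hdeg5]
    refine natDegree_le_finrank g1 _ (fun y hy => ?_) ?_ (u := (g1 - 1) x) ?_ hx ?_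
    · rw [LinearMap.mem_ker] at hy ⊢
      have hcomm : S * g1 = g1 * S := by rw [hS2, Finset.sum_mul, Finset.mul_sum]; simp [← pow_succ, ← pow_succ']
      rw [← Module.End.mul_apply, hcomm, Module.End.mul_apply, hy, map_zero]
    · rw [map_cyclotomic_int]; exact cyclotomic.irreducible_rat (by norm_num)
    · rw [LinearMap.mem_ker, ← Module.End.mul_apply, hSg, LinearMap.zero_apply]
    · rw [← hS, ← Module.End.mul_apply, hSg, LinearMap.zero_apply]
  have hrange : Module.finrank ℚ ↥(LinearMap.range (f P)) ≤ 3 := by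
    have hdisj : Disjoint (LinearMap.range (f P)) (LinearMap.ker S) := by
      rw [Submodule.disjoint_def]
      rintro y ⟨z, rfl⟩ hy
      have hfix : ∀ i : ℕ, (g1 ^ i) (f P z) = f P z := by
        intro i
        induction i with
        | zero => rfl
        | succ i ih =>
          rw [pow_succ, Module.End.mul_apply, ← Module.End.mul_apply g1, hg1, ← map_mul, hW1P, ← hg1, ih]
      rw [LinearMap.mem_ker, hS2, LinearMap.sum_apply, Finset.sum_congr rfl fun i _ => hfix i, Finset.sum_const,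
        Finset.card_range, ← Nat.cast_smul_eq_nsmul ℚ] at hy
      exact (smul_eq_zero.1 hy).resolve_left (by norm_num)
    have h := Submodule.finrank_add_finrank_le_of_disjoint hdisj
    rw [Module.finrank_fin_fun] at h
    omega
  -- the twelfth cyclotomic polynomial does not occur on the image
  obtain ⟨p, hp⟩ : cyclotomic 12 ℤ ∣ X ^ o - 1 := by
    obtain ⟨m, rfl⟩ := ho12
    exact (cyclotomic.dvd_X_pow_sub_one 12 ℤ).trans
      (by rw [pow_mul]; exact sub_one_dvd_pow_sub_one _ m)
  have hcom : Commute (f P) (f W) := Commute.map hWP.symm f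
  have hzero : aeval W p * P = 0 := by
    refine hfinj ?_
    rw [map_zero, map_mul, hfaeval]
    obtain ⟨φ, hφ⟩ : ∃ φ, φ = aeval (f W) (p.map (Int.castRingHom ℚ)) := ⟨_, rfl⟩
    rw [← hφ]
    refine LinearMap.ext fun y => ?_
    rw [Module.End.mul_apply, LinearMap.zero_apply]
    by_contra hne
    have hU : ∀ z ∈ LinearMap.range (f P), f W z ∈ LinearMap.range (f P) := by
      rintro z ⟨w, rfl⟩
      exact ⟨f W w, by rw [← Module.End.mul_apply, hcom.eq, Module.End.mul_apply]⟩
    have h := natDegree_le_finrank (f W) (LinearMap.range (f P)) hU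
      (Φ := (cyclotomic 12 ℤ).map (Int.castRingHom ℚ))
      (by rw [map_cyclotomic_int]; exact cyclotomic.irreducible_rat (by norm_num))
      (hφ ▸ aeval_apply_smul_mem_of_le_comap' (LinearMap.mem_range_self _ y) _ (f W) hU) hne (by
        rw [hφ, ← Module.End.mul_apply, ← map_mul, ← Polynomial.map_mul, ← hp, ← hfaeval]
        simp [hWo])
    rw [map_cyclotomic_int, natDegree_cyclotomic, show Nat.totient 12 = 4 from by decide] at h
    omega
  -- evaluation modulo thirteen
  have hp2 : ((p.eval 2 : ℤ) : ZMod 13) ≠ 0 := by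
    intro h0
    have hd := congrArg derivative hp
    rw [derivative_sub, derivative_X_pow, derivative_one, sub_zero, derivative_mul] at hd
    have h2 := congrArg (fun g : ℤ[X] => ((g.eval 2 : ℤ) : ZMod 13)) hd
    have : NeZero ((12 : ℕ) : ZMod 13) := ⟨h12⟩
    have hΦ2 : (((cyclotomic 12 ℤ).eval 2 : ℤ) : ZMod 13) = 0 := by
      have h3 := (isRoot_cyclotomic_iff (R := ZMod 13) (n := 12)).2 hprim
      rw [IsRoot.def, ← map_cyclotomic_int, eval_map, show (2 : ZMod 13) = Int.castRingHom (ZMod 13) 2 from by simp,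
        eval₂_at_apply, eq_intCast] at h3
      exact h3
    simp only [eval_add, eval_mul, eval_C, eval_pow, eval_X, Int.cast_add, Int.cast_mul, h0, hΦ2, mul_zero, zero_mul,
      add_zero, Int.cast_natCast, Int.cast_pow] at h2
    rcases mul_eq_zero.1 h2 with h | h
    · exact ho ((ZMod.natCast_eq_zero_iff _ _).1 h)
    · exact h2ne (by exact_mod_cast (pow_eq_zero_iff'.1 h).1)
  have h := congrArg (fun M : Matrix (Fin l) (Fin l) ℤ => M.map (Int.cast : ℤ → ZMod 13) *ᵥ k) hzero
  have hmm : (aeval W p * P).map (Int.cast : ℤ → ZMod 13) =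
      (aeval W p).map (Int.cast : ℤ → ZMod 13) * P.map (Int.cast : ℤ → ZMod 13) :=
    map_mul (Int.castRingHom (ZMod 13)).mapMatrix _ _
  simp only [hmm, Matrix.map_zero _ Int.cast_zero, Matrix.zero_mulVec] at h
  rw [← Matrix.mulVec_mulVec, hPk, Matrix.mulVec_smul, aeval_mulVec_eigen W hk' p, smul_smul, smul_eq_zero] at h
  exact mul_ne_zero hc hp2 (h.resolve_right hk0)

end CfsgLib.Lie.SixtyFive
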