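import Cfsg.Agent.Lib.Known.Homocyclic.Main
import Cfsg.Agent.Lib.Lie.SixtyFive.Rank

/-!
# Stabilisers in Weyl groups of eigenvectors modulo thirteen
-/

set_option autoImplicit false
set_option maxHeartbeats 800000

namespace CfsgLib.Lie.SixtyFive

open Cfsg.Lie (ChevalleyDatum)
open CfsgLib.Lie.Chev
open CfsgLib.Known.CyclicTorus (cvec wMat wMat_mul wMat_pow wMat_one vecMul_wMat)
open scoped Matrix

variable {D : ChevalleyDatum} {X : Aux} {F : Type*} [Field F] {G : Type*} [Group G] (R : Rel D X F G)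

theorem eq_one_of_wMat_eq_one (hinj : ∀ s s' : Fin D.nroots, cvec D X s = cvec D X s' → s = s')
    {π : Equiv.Perm (Fin D.nroots)} (hπ : R.IsLin π) (h : wMat R π = 1) : π = 1 :=
  Equiv.ext fun s => by
    have e := vecMul_wMat R hπ s
    rw [h, Matrix.vecMul_one] at e
    rw [Equiv.Perm.one_apply]
    exact (hinj _ _ e).symm

/-- The reduction modulo `p` of the matrix of a permutation. -/
def redMat (p : ℕ) (π : Equiv.Perm (Fin D.nroots)) : Matrix (Fin D.rank) (Fin D.rank) (ZMod p) :=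
  (wMat R π).map (Int.cast : ℤ → ZMod p)

theorem redMat_mul (p : ℕ) {π ρ : Equiv.Perm (Fin D.nroots)} (hπ : R.IsLin π) :
    redMat R p (π * ρ) = redMat R p ρ * redMat R p π := by
  rw [redMat, wMat_mul R hπ]
  exact map_mul (Int.castRingHom (ZMod p)).mapMatrix _ _

theorem redMat_one (p : ℕ) : redMat R p 1 = 1 := by
  rw [redMat, wMat_one, Matrix.map_one _ Int.cast_zero Int.cast_one]

theorem redMat_pow_eigen (p : ℕ) {π : Equiv.Perm (Fin D.nroots)} (hπ : R.IsLin π) {v : Fin D.rank → ZMod p}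
    {a : ZMod p} (h : redMat R p π *ᵥ v = a • v) : ∀ n : ℕ, redMat R p (π ^ n) *ᵥ v = a ^ n • v := by
  intro n
  induction n with
  | zero => simp [redMat_one]
  | succ n ih =>
    rw [pow_succ, redMat_mul R p (CfsgLib.Known.CyclicTorus.isLin_pow R hπ n), ← Matrix.mulVec_mulVec, ih,
      Matrix.mulVec_smul, h, smul_smul, pow_succ]

/-- An element of five-power order fixing an eigenvector for two modulo thirteen is trivial. -/
theorem nsPerm_eq_one_of_fix (hl : D.rank ≤ 7) (hinj : ∀ s s' : Fin D.nroots, cvec D X s = cvec D X s' → s = s')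
    (h13 : ¬ 13 ∣ Nat.card R.WQ) [Finite R.WQ] {k : Fin D.rank → ZMod 13} (hk0 : k ≠ 0) {g0 : R.NS}
    (hk : redMat R 13 (R.nsPerm g0) *ᵥ k = (2 : ZMod 13) • k) {g : R.NS}
    (hg : redMat R 13 (R.nsPerm g) *ᵥ k = k) {j : ℕ} (hj : R.nsPerm g ^ 5 ^ j = 1) : R.nsPerm g = 1 := by
  classical
  have : Fact (Nat.Prime 5) := ⟨by norm_num⟩
  by_contra hne
  obtain ⟨Γ, hΓ⟩ : ∃ Γ, Γ = R.nsPerm.range := ⟨_, rfl⟩
  have hlin : ∀ π ∈ Γ, R.IsLin π := by
    intro π hπ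
    rw [hΓ] at hπ
    obtain ⟨m, rfl⟩ := hπ
    exact R.isLin_nsPerm m
  have hΓcard : ¬ 13 ∣ Nat.card ↥Γ := fun h => h13 (h.trans (by
    have e : Γ = R.qact.range := by
      rw [hΓ, show R.nsPerm = R.qact.comp R.qmk from MonoidHom.ext fun m => (R.qact_qmk m).symm, MonoidHom.range_comp,
        MonoidHom.range_eq_top.2 R.qmk_surjective, ← MonoidHom.range_eq_map]
    rw [e]
    exact Subgroup.card_range_dvd _))
  -- an element of order five
  obtain ⟨i, -, hi⟩ := (Nat.dvd_prime_pow (by norm_num : Nat.Prime 5)).1 (orderOf_dvd_of_pow_eq_one hj)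
  rcases Nat.eq_zero_or_pos i with rfl | hi0
  · exact hne (orderOf_eq_one_iff.1 (by rw [hi, pow_zero]))
  obtain ⟨π₁, hπ₁⟩ : ∃ π₁, π₁ = R.nsPerm g ^ 5 ^ (i - 1) := ⟨_, rfl⟩
  have hπ5 : π₁ ^ 5 = 1 := by
    rw [hπ₁, ← pow_mul, ← pow_succ, Nat.sub_add_cancel hi0, ← hi, pow_orderOf_eq_one]
  have hπne : π₁ ≠ 1 := by
    rw [hπ₁]
    refine pow_ne_one_of_lt_orderOf (pow_ne_zero _ (by norm_num)) ?_
    rw [hi]
    exact Nat.pow_lt_pow_right (by norm_num) (by omega)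
  have hπ1mem : π₁ ∈ Γ := by rw [hπ₁, hΓ]; exact pow_mem (MonoidHom.mem_range.2 ⟨g, rfl⟩) _
  have hπ1fix : redMat R 13 π₁ *ᵥ k = k := by
    have h := redMat_pow_eigen R 13 (R.isLin_nsPerm g) (a := 1) (by rw [one_smul]; exact hg) (5 ^ (i - 1))
    rw [one_pow, one_smul] at h
    rw [hπ₁]
    exact h
  -- the stabiliser and its averaging matrix
  obtain ⟨St, hSt⟩ : ∃ St : Subgroup (Equiv.Perm (Fin D.nroots)),
      ∀ π, π ∈ St ↔ π ∈ Γ ∧ redMat R 13 π *ᵥ k = k := by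
    refine ⟨{ carrier := {π | π ∈ Γ ∧ redMat R 13 π *ᵥ k = k}
              one_mem' := ⟨one_mem _, by rw [redMat_one, Matrix.one_mulVec]⟩
              mul_mem' := fun {a b} ha hb => ⟨mul_mem ha.1 hb.1, by
                rw [redMat_mul R 13 (hlin a ha.1), ← Matrix.mulVec_mulVec, ha.2, hb.2]⟩
              inv_mem' := fun {a} ha => ⟨inv_mem ha.1, ?_⟩ }, fun π => Iff.rfl⟩
    conv_lhs => rw [← ha.2]
    rw [Matrix.mulVec_mulVec, ← redMat_mul R 13 (hlin a ha.1), mul_inv_cancel, redMat_one, Matrix.one_mulVec]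
  obtain ⟨π₀, hπ₀⟩ : ∃ π₀, π₀ = R.nsPerm g0 := ⟨_, rfl⟩
  rw [← hπ₀] at hk
  have hπ0mem : π₀ ∈ Γ := by rw [hπ₀, hΓ]; exact ⟨g0, rfl⟩
  have hSle : St ≤ Γ := fun π hπ => ((hSt π).1 hπ).1
  obtain ⟨P, hP⟩ : ∃ P, P = ∑ π : ↥St, wMat R (π : Equiv.Perm (Fin D.nroots)) := ⟨_, rfl⟩
  have hinv0 : redMat R 13 π₀⁻¹ *ᵥ ((2 : ZMod 13) • k) = k := by
    rw [← hk, Matrix.mulVec_mulVec, ← redMat_mul R 13 (hlin _ hπ0mem), mul_inv_cancel, redMat_one, Matrix.one_mulVec]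
  have hnorm : ∀ π ∈ St, π₀ * π * π₀⁻¹ ∈ St := by
    intro π hπ
    obtain ⟨h1, h2⟩ := (hSt π).1 hπ
    refine (hSt _).2 ⟨mul_mem (mul_mem hπ0mem h1) (inv_mem hπ0mem), ?_⟩
    rw [redMat_mul R 13 (hlin _ (mul_mem hπ0mem h1)), redMat_mul R 13 (hlin _ hπ0mem), ← Matrix.mulVec_mulVec,
      ← Matrix.mulVec_mulVec, hk, Matrix.mulVec_smul, h2, hinv0]
  have hWP : wMat R π₀ * P = P * wMat R π₀ := by
    obtain ⟨cj, hcj⟩ : ∃ cj : ↥St → ↥St, ∀ π, ((cj π : ↥St) : Equiv.Perm (Fin D.nroots)) = π₀ * π * π₀⁻¹ :=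
      ⟨fun π => ⟨_, hnorm _ π.2⟩, fun _ => rfl⟩
    have hb : Function.Bijective cj := Finite.injective_iff_bijective.1 fun a b h => by
      have h' := congrArg Subtype.val h
      rw [hcj, hcj, mul_left_inj, mul_right_inj] at h'
      exact Subtype.ext h'
    conv_lhs => rw [hP, Finset.mul_sum,
      ← Fintype.sum_bijective cj hb (fun π => wMat R π₀ * wMat R (cj π : Equiv.Perm (Fin D.nroots))) _ fun _ => rfl]
    rw [hP, Finset.sum_mul]
    refine Finset.sum_congr rfl fun π _ => ?_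
    have hl1 : R.IsLin (cj π : Equiv.Perm (Fin D.nroots)) := hlin _ (hSle (cj π).2)
    rw [← wMat_mul R hl1, ← wMat_mul R (hlin _ hπ0mem), hcj, mul_assoc _ π₀⁻¹, inv_mul_cancel, mul_one]
  have hW1P : wMat R π₁ * P = P := by
    have hm : π₁ ∈ St := (hSt _).2 ⟨hπ1mem, hπ1fix⟩
    rw [hP, Finset.mul_sum]
    refine Fintype.sum_bijective (fun π : ↥St => π * ⟨π₁, hm⟩) (Group.mulRight_bijective _)
      (fun π : ↥St => wMat R π₁ * wMat R (π : Equiv.Perm (Fin D.nroots)))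
      (fun π : ↥St => wMat R (π : Equiv.Perm (Fin D.nroots))) fun π => ?_
    simp only [Subgroup.coe_mul]
    rw [wMat_mul R (hlin _ (hSle π.2))]
  have hPk : P.map (Int.cast : ℤ → ZMod 13) *ᵥ k = (Nat.card ↥St : ZMod 13) • k := by
    have hmap : P.map (Int.cast : ℤ → ZMod 13) = ∑ π : ↥St, redMat R 13 (π : Equiv.Perm (Fin D.nroots)) := by
      rw [hP]
      exact map_sum (Int.castRingHom (ZMod 13)).mapMatrix _ _
    rw [hmap, Matrix.sum_mulVec, Finset.sum_congr rfl fun π _ => ((hSt _).1 π.2).2, Finset.sum_const,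
      Finset.card_univ, ← Nat.card_eq_fintype_card, ← Nat.cast_smul_eq_nsmul (ZMod 13)]
  refine false_of_average hl (W := wMat R π₀) (W1 := wMat R π₁) (P := P) ?_ ?_ hW1P hWP (o := orderOf π₀) ?_ ?_ hk0 hk
    (c := (Nat.card ↥St : ZMod 13)) (fun h => hΓcard (((ZMod.natCast_eq_zero_iff _ _).1 h).trans
      (Subgroup.card_dvd_of_le hSle))) hPk
  · rw [← wMat_pow R (hlin _ hπ1mem), hπ5, wMat_one]
  · exact fun h => hπne (eq_one_of_wMat_eq_one R hinj (hlin _ hπ1mem) h)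
  · rw [← wMat_pow R (hlin _ hπ0mem), pow_orderOf_eq_one, wMat_one]
  · intro h
    refine hΓcard (h.trans ?_)
    rw [← Subgroup.orderOf_mk π₀ hπ0mem]
    exact orderOf_dvd_natCard _

end CfsgLib.Lie.SixtyFive
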