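import Cfsg.Agent.Lib.Known.Homocyclic.Main
import Cfsg.Agent.Lib.Lie.SixtyFive.Weyl

/-!
# Eigenvalues of a Weyl group element at five and at thirteen
-/

set_option autoImplicit false
set_option maxHeartbeats 800000

namespace CfsgLib.Lie.SixtyFive

open Cfsg.Lie (ChevalleyDatum)
open CfsgLib.Lie.Chev
open CfsgLib.Known.CyclicTorus (wMat wMat_pow isLin_pow)
open CfsgLib.Known.Homocyclic (RankOK exists_card_eigen weylLike)
open scoped Matrix
open Polynomial (cyclotomic)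

theorem pow_twentyfive_pow (i : ℕ) : ∃ q, 25 ^ i = 12 * q + 1 := by
  induction i with
  | zero => exact ⟨0, rfl⟩
  | succ i ih =>
    obtain ⟨q, hq⟩ := ih
    exact ⟨25 * q + 2, by rw [pow_succ, hq]; ring⟩

theorem exists_eigenvector {l : ℕ} {p : ℕ} [Fact p.Prime] (W : Matrix (Fin l) (Fin l) ℤ) {d : ℕ}
    (hdvd : cyclotomic d ℤ ∣ W.charpoly) {a : ZMod p} (ha : (cyclotomic d (ZMod p)).IsRoot a) :
    ∃ v : Fin l → ZMod p, v ≠ 0 ∧ W.map (Int.cast : ℤ → ZMod p) *ᵥ v = a • v := by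
  have h0 : (W.map (Int.castRingHom (ZMod p))).charpoly.eval a = 0 := by
    rw [Matrix.charpoly_map]
    obtain ⟨u, hu⟩ := hdvd
    rw [hu, Polynomial.map_mul, Polynomial.map_cyclotomic_int, Polynomial.eval_mul, ha, zero_mul]
  rw [Matrix.eval_charpoly] at h0
  obtain ⟨v, hv0, hv⟩ := Matrix.exists_mulVec_eq_zero_iff.2 h0
  refine ⟨v, hv0, ?_⟩
  rw [Matrix.sub_mulVec, sub_eq_zero] at hv
  refine hv.symm.trans (funext fun i => ?_)
  simp [Matrix.scalar_apply, Matrix.mulVec_diagonal]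

/-- A Weyl group element cannot have eigenvalue two both modulo five and modulo thirteen. -/
theorem false_of_eigen_pair {D : ChevalleyDatum} {X : Aux} {F : Type*} [Field F] {G : Type*} [Group G]
    (R : Rel D X F G) [Finite R.WQ] {degs : List ℕ} (hR : RankOK D X degs) (h4 : ∃ e ∈ degs, 4 ∣ e)
    (hcnt : (degs.filter fun e => 4 ∣ e).length ≤ 2) (h13 : ¬ 13 ∣ Nat.card R.WQ) (g : R.NS)
    {u5 : Fin D.rank → ZMod 5} {u13 : Fin D.rank → ZMod 13} (h5 : u5 ≠ 0) (h13v : u13 ≠ 0)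
    (e5 : redMat R 5 (R.nsPerm g) *ᵥ u5 = (2 : ZMod 5) • u5)
    (e13 : redMat R 13 (R.nsPerm g) *ᵥ u13 = (2 : ZMod 13) • u13) : False := by
  classical
  have p5 : IsPrimitiveRoot (2 : ZMod 5) 4 := by
    rw [IsPrimitiveRoot.iff (by norm_num)]
    refine ⟨by decide, fun i hi hi' => ?_⟩
    interval_cases i <;> decide
  have p13 : IsPrimitiveRoot (2 : ZMod 13) 12 := by
    rw [IsPrimitiveRoot.iff (by norm_num)]
    refine ⟨by decide, fun i hi hi' => ?_⟩
    interval_cases i <;> decide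
  have p13a : IsPrimitiveRoot (6 : ZMod 13) 12 := by
    rw [IsPrimitiveRoot.iff (by norm_num)]
    refine ⟨by decide, fun i hi hi' => ?_⟩
    interval_cases i <;> decide
  have p13b : IsPrimitiveRoot (5 : ZMod 13) 4 := by
    rw [IsPrimitiveRoot.iff (by norm_num)]
    refine ⟨by decide, fun i hi hi' => ?_⟩
    interval_cases i <;> decide
  have p13c : IsPrimitiveRoot (8 : ZMod 13) 4 := by
    rw [IsPrimitiveRoot.iff (by norm_num)]
    refine ⟨by decide, fun i hi hi' => ?_⟩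
    interval_cases i <;> decide
  have hc3 : (2 : ZMod 13) ^ 3 = 8 ∧ (6 : ZMod 13) ^ 3 = 8 ∧ (5 : ZMod 13) ^ 3 = 8 := by decide
  have hc12 : (2 : ZMod 5) ^ 12 = 1 ∧ (2 : ZMod 13) ^ 12 = 1 := by decide
  have hn4 : ((4 : ℕ) : ZMod 13) ≠ 0 ∧ ((12 : ℕ) : ZMod 13) ≠ 0 := by decide
  have hdet : ∀ a : ZMod 13, 12 * a = 0 → a = 0 := by decide
  have : Fact (Nat.Prime 5) := ⟨by norm_num⟩
  have : Fact (Nat.Prime 13) := ⟨by norm_num⟩
  obtain ⟨π, hπ⟩ : ∃ π, π = R.nsPerm g := ⟨_, rfl⟩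
  obtain ⟨o, ho⟩ : ∃ o, o = orderOf π := ⟨_, rfl⟩
  have ho0 : 0 < o := ho ▸ orderOf_pos _
  have ho13 : ¬ 13 ∣ o := by
    intro h
    refine h13 (h.trans ?_)
    rw [ho, hπ, ← R.qact_qmk]
    exact (orderOf_map_dvd _ _).trans (orderOf_dvd_natCard _)
  obtain ⟨i, o', ho', hoeq⟩ := Nat.exists_eq_pow_mul_and_not_dvd ho0.ne' 5 (by norm_num)
  obtain ⟨q, hq⟩ := pow_twentyfive_pow i
  obtain ⟨n, hn⟩ : ∃ n, n = 25 ^ i := ⟨_, rfl⟩
  obtain ⟨W, hW⟩ : ∃ W, W = wMat R (π ^ n) := ⟨_, rfl⟩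
  have hlin : R.IsLin π := hπ ▸ R.isLin_nsPerm g
  have hWo : W ^ o' = 1 := by
    rw [hW, ← wMat_pow R (isLin_pow R hlin n), ← pow_mul,
      orderOf_dvd_iff_pow_eq_one.1 (show orderOf π ∣ n * o' from ?_), CfsgLib.Known.CyclicTorus.wMat_one]
    rw [← ho, hoeq, hn]
    exact Nat.mul_dvd_mul_right (pow_dvd_pow_of_dvd (show (5 : ℕ) ∣ 25 by norm_num) i) _
  have ho'0 : 0 < o' := Nat.pos_of_ne_zero fun h => ho' (h ▸ dvd_zero 5)
  have ho'13 : ¬ 13 ∣ o' := fun h => ho13 (hoeq ▸ h.mul_left _)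
  have w5 : W.map (Int.cast : ℤ → ZMod 5) *ᵥ u5 = (2 : ZMod 5) • u5 := by
    have h := redMat_pow_eigen R 5 hlin (hπ.symm ▸ e5) n
    rwa [hn, hq, pow_succ (2 : ZMod 5), pow_mul, hc12.1, one_pow, one_mul, redMat, ← hq, ← hn, ← hW] at h
  have w13 : W.map (Int.cast : ℤ → ZMod 13) *ᵥ u13 = (2 : ZMod 13) • u13 := by
    have h := redMat_pow_eigen R 13 hlin (hπ.symm ▸ e13) n
    rwa [hn, hq, pow_succ (2 : ZMod 13), pow_mul, hc12.2, one_pow, one_mul, redMat, ← hq, ← hn, ← hW] at h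
  have hpos : ∀ {p : ℕ} [Fact p.Prime] {z : ZMod p} {u : Fin D.rank → ZMod p} {b : ℕ}, u ≠ 0 →
      W.map (Int.cast : ℤ → ZMod p) *ᵥ u = z • u →
      Nat.card {v : Fin D.rank → ZMod p // W.map (Int.cast : ℤ → ZMod p) *ᵥ v = z • v} = p ^ b → 1 ≤ b := by
    intro p _ z u b hu hWu hb
    rcases Nat.eq_zero_or_pos b with rfl | h
    · rw [pow_zero] at hb
      have := (Nat.card_eq_one_iff_unique.1 hb).1
      exact absurd (congrArg Subtype.val (Subsingleton.elim (⟨u, hWu⟩ : {v : Fin D.rank → ZMod p //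
        W.map (Int.cast : ℤ → ZMod p) *ᵥ v = z • v}) ⟨0, by simp⟩)) hu
    · exact h
  have hd4 : cyclotomic 4 ℤ ∣ W.charpoly := by
    obtain ⟨b, hb, -, hbc⟩ := exists_card_eigen W ho'0 hWo ho' (by norm_num) p5
    exact (dvd_pow_self _ (Nat.one_le_iff_ne_zero.1 (hpos h5 w5 hbc))).trans hb
  have hd12 : cyclotomic 12 ℤ ∣ W.charpoly := by
    obtain ⟨b, hb, -, hbc⟩ := exists_card_eigen W ho'0 hWo ho'13 (by norm_num) p13
    exact (dvd_pow_self _ (Nat.one_le_iff_ne_zero.1 (hpos h13v w13 hbc))).trans hb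
  have : NeZero ((4 : ℕ) : ZMod 13) := ⟨hn4.1⟩
  have : NeZero ((12 : ℕ) : ZMod 13) := ⟨hn4.2⟩
  obtain ⟨v1, hv1, w1⟩ := exists_eigenvector W hd12 ((Polynomial.isRoot_cyclotomic_iff).2 p13a)
  obtain ⟨v2, hv2, w2⟩ := exists_eigenvector W hd4 ((Polynomial.isRoot_cyclotomic_iff).2 p13b)
  have hcube : ∀ {v : Fin D.rank → ZMod 13} {a : ZMod 13}, a ^ 3 = 8 →
      W.map (Int.cast : ℤ → ZMod 13) *ᵥ v = a • v →
        (W ^ 3).map (Int.cast : ℤ → ZMod 13) *ᵥ v = (8 : ZMod 13) • v := by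
    intro v a ha hv
    have h := redMat_pow_eigen R 13 (isLin_pow R hlin n) (v := v) (a := a) (by rw [redMat, ← hW]; exact hv) 3
    rwa [ha, redMat, wMat_pow R (isLin_pow R hlin n), ← hW] at h
  have c0 := hcube hc3.1 w13
  have c1 := hcube hc3.2.1 w1
  have c2 := hcube hc3.2.2 w2
  obtain ⟨b, hb, hbl, hbc⟩ := exists_card_eigen (W ^ 3) ho'0
    (by rw [← pow_mul, mul_comm, pow_mul, hWo, one_pow]) ho'13 (by norm_num) p13c
  have h3b : 3 ≤ b := by
    refine (Nat.pow_le_pow_iff_right (show 1 < 13 by norm_num)).1 ?_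
    rw [← hbc, show 13 ^ 3 = Nat.card (ZMod 13 × ZMod 13 × ZMod 13) by
      rw [Nat.card_prod, Nat.card_prod, Nat.card_zmod]; norm_num]
    refine Nat.card_le_card_of_injective (fun c => ⟨c.1 • u13 + c.2.1 • v1 + c.2.2 • v2, ?_⟩) ?_
    · rw [Matrix.mulVec_add, Matrix.mulVec_add, Matrix.mulVec_smul, Matrix.mulVec_smul, Matrix.mulVec_smul, c0, c1, c2]
      simp only [smul_add, smul_comm (8 : ZMod 13)]
    · rintro ⟨a, b, c⟩ ⟨a', b', c'⟩ h
      have h0 : (a - a') • u13 + (b - b') • v1 + (c - c') • v2 = 0 := by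
        have := sub_eq_zero.2 (congrArg Subtype.val h)
        rw [← this]
        simp only [sub_smul]
        abel
      obtain ⟨M, hM⟩ : ∃ M, M = W.map (Int.cast : ℤ → ZMod 13) := ⟨_, rfl⟩
      rw [← hM] at w13 w1 w2
      have h1 := congrArg (fun v => M *ᵥ v) h0
      simp only [Matrix.mulVec_add, Matrix.mulVec_smul, w13, w1, w2, Matrix.mulVec_zero] at h1
      have h2 := congrArg (fun v => M *ᵥ v) h1
      simp only [Matrix.mulVec_add, Matrix.mulVec_smul, w13, w1, w2, Matrix.mulVec_zero] at h2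
      have hz : ∀ {α : ZMod 13} {v : Fin D.rank → ZMod 13}, v ≠ 0 → (∀ j, 12 * α * v j = 0) → α = 0 := by
        intro α v hv hall
        obtain ⟨j, hj⟩ := Function.ne_iff.1 hv
        exact hdet _ ((mul_eq_zero.1 (hall j)).resolve_right hj)
      have key : ∀ j, (a - a') * u13 j + (b - b') * v1 j + (c - c') * v2 j = 0 ∧
          2 * (a - a') * u13 j + 6 * (b - b') * v1 j + 5 * (c - c') * v2 j = 0 ∧
          4 * (a - a') * u13 j + 36 * (b - b') * v1 j + 25 * (c - c') * v2 j = 0 := by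
        intro j
        have k0 := congrFun h0 j
        have k1 := congrFun h1 j
        have k2 := congrFun h2 j
        simp only [Pi.add_apply, Pi.smul_apply, smul_eq_mul, Pi.zero_apply] at k0 k1 k2
        exact ⟨k0, by linear_combination k1, by linear_combination k2⟩
      have ha := hz h13v (α := a - a') fun j => by
        obtain ⟨k0, k1, k2⟩ := key j
        linear_combination k2 - 11 * k1 + 30 * k0
      have hb' := hz hv1 (α := b - b') fun j => by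
        obtain ⟨k0, k1, k2⟩ := key j
        linear_combination 3 * (k2 - 7 * k1 + 10 * k0)
      have hc' := hz hv2 (α := c - c') fun j => by
        obtain ⟨k0, k1, k2⟩ := key j
        linear_combination (-4) * (k2 - 8 * k1 + 12 * k0)
      rw [sub_eq_zero] at ha hb' hc'
      rw [ha, hb', hc']
  have hlike : CfsgLib.Known.Homocyclic.WeylLike D X (W ^ 3) := by
    rw [hW, ← wMat_pow R (isLin_pow R hlin n), ← pow_mul, hπ, ← map_pow]
    exact weylLike R _
  have := hR 4 b (W ^ 3) h4 hlike ⟨o', ho'0, by rw [← pow_mul, mul_comm, pow_mul, hWo, one_pow]⟩ hb hbl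
  omega

end CfsgLib.Lie.SixtyFive
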