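import Cfsg.Agent.Lib.Known.Homocyclic.Main
import Cfsg.Agent.Lib.Lie.SixtyFive.Centralise
import Cfsg.Agent.Lib.Lie.SixtyFive.Weyl
import Cfsg.Agent.Lib.Lie.SixtyFive.Triple

/-!
# Elements of order sixty-five in Chevalley groups over two elements
-/

set_option autoImplicit false
set_option maxHeartbeats 1600000

namespace CfsgLib.Lie.SixtyFive

open Cfsg.Lie (ChevalleyDatum)
open CfsgLib.Lie.Chev
open CfsgLib.Known.CyclicTorus (cvec castV castM wMat)
open CfsgLib.Known.Homocyclic (RankOK conj_eq_of_bnu padicValNat_card_group padicValNat_pow_sub_one sum_map_ite_eq)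
open scoped Matrix

variable {D : ChevalleyDatum} {X : Aux}

/-- Conditions on a datum which exclude elements of order sixty-five over two elements. -/
structure SixtyFiveOK (D : ChevalleyDatum) (X : Aux) (degs : List ℕ) (Minv : Fin D.rank → Fin D.rank → ℤ) : Prop where
  len : degs.length = D.rank
  rank_le : D.rank ≤ 7
  rankOK : RankOK D X degs
  four : ∃ e ∈ degs, 4 ∣ e
  count : (degs.filter fun e => 4 ∣ e).length ≤ 2
  prime13 : ¬ 13 ∣ degs.prod
  inv5 : ∀ a j : Fin D.rank,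
    (5 : ℤ) ∣ (∑ i : Fin D.rank, Minv a i * ((cmat D).getD i []).getD j 0) - if j = a then 1 else 0
  inj5 : ∀ s s' : Fin D.nroots, (∀ i, (5 : ℤ) ∣ cvec D X s i - cvec D X s' i) → s = s'
  nz5 : ∀ s : Fin D.nroots, ∃ i, ¬ (5 : ℤ) ∣ cvec D X s i

theorem val_ne_zero_of_orderOf (x : ZMod 4095) (h : (65 : ℕ) * x.val % 4095 = 0)
    (h13 : x.val % 13 = 0) : (5 : ℕ) * x.val % 4095 = 0 := by omega

theorem val_ne_zero_of_orderOf' (x : ZMod 4095) (h : (65 : ℕ) * x.val % 4095 = 0)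
    (h5 : x.val % 5 = 0) : (13 : ℕ) * x.val % 4095 = 0 := by omega

theorem not_orderOf_sixty_five (C : Cert D X) {M U U' V V' : List (List ℤ)} {dd degs : List ℕ}
    {Minv : Fin D.rank → Fin D.rank → ℤ}
    (hM : cmat D = M) (hchk : chkSmith D.rank M U U' V V' dd = true) (hp : chkPoly M D.rank (half D) degs = true)
    (hdd : ∀ i : Fin D.rank, dd.getD i 0 ∣ degs.prod) (H : SixtyFiveOK D X degs Minv)
    (z : ↥(D.group (ZMod 2))) (hz : orderOf z = 65) : False := by
  classical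
  have : Fact (Nat.Prime 5) := ⟨by norm_num⟩
  have : Fact (Nat.Prime 13) := ⟨by norm_num⟩
  have : Fact (Nat.Prime 2) := ⟨Nat.prime_two⟩
  -- the extension field
  let K := FiniteField.Extension (ZMod 2) 2 12
  have : Finite K := Module.finite_of_finite (ZMod 2)
  let : Fintype K := Fintype.ofFinite K
  have hK : Fintype.card K = 4096 := by
    rw [← Nat.card_eq_fintype_card, FiniteField.natCard_extension (ZMod 2) 2 12, Nat.card_zmod]; norm_num
  have hN : Nat.card Kˣ = 4095 := by rw [Nat.card_units, Nat.card_eq_fintype_card, hK]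
  have hdeg : ∀ e ∈ degs, ¬ 13 ∣ e := fun e he h => H.prime13 (h.trans (List.dvd_prod he))
  have hord1 : 1 = orderOf (((4096 : ℕ) : ℕ) : ZMod 13) := by
    rw [show ((4096 : ℕ) : ZMod 13) = 1 from rfl, orderOf_one]
  have hval1 : padicValNat 13 4095 = 1 := by
    rw [show 4095 = 13 * 315 from rfl, padicValNat.mul (by norm_num) (by norm_num), padicValNat.self (by norm_num),
      padicValNat.eq_zero_of_not_dvd (show ¬ 13 ∣ 315 by norm_num), add_zero]
  have hvalK : padicValNat 13 (Nat.card ↥(D.group K)) = D.rank := by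
    rw [padicValNat_card_group C hM hchk hp hdd H.prime13 K hK (by norm_num),
      List.map_congr_left fun e he => padicValNat_pow_sub_one (by norm_num) hord1 one_pos (hdeg e he),
      sum_map_ite_eq, pow_one, show (4096 - 1 : ℕ) = 4095 from rfl, hval1,
      List.filter_eq_self.2 fun e _ => by simp, H.len, one_mul]
  have hvalH : padicValNat 13 (Nat.card ↥(chevRel C K).HS) = D.rank := by
    have h := card_HS_mul C K hM hchk
    rw [hK, show (4096 - 1 : ℕ) = 4095 from rfl] at h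
    have h2 := congrArg (padicValNat 13) h
    rw [padicValNat.mul (fun h0 => by rw [h0, zero_mul] at h; exact pow_ne_zero _ (by norm_num) h.symm)
      Nat.card_pos.ne', CfsgLib.Known.Homocyclic.padicValNat_prod_gcd hdd H.prime13, zero_add, padicValNat.pow,
      hval1, mul_one] at h2
    exact h2
  have hWQ : ¬ 13 ∣ Nat.card (chevRel C K).WQ := by
    intro h1
    have h2 : Nat.card (chevRel C K).WQ * Nat.card ↥(chevRel C K).HS = Nat.card ↥(chevRel C K).NS := by
      rw [← Nat.card_congr (Subgroup.subgroupOfEquivOfLe (chevRel C K).HS_le_NS).toEquiv]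
      exact (Subgroup.card_eq_card_quotient_mul_card_subgroup _).symm
    have h3 : 13 ^ (D.rank + 1) ∣ Nat.card ↥(D.group K) := by
      refine Dvd.dvd.trans ?_ (h2 ▸ Subgroup.card_subgroup_dvd_card (chevRel C K).NS)
      have hH := pow_padicValNat_dvd (p := 13) (n := Nat.card ↥(chevRel C K).HS)
      rw [hvalH] at hH
      rw [pow_succ']
      exact mul_dvd_mul h1 hH
    have hnd := pow_succ_padicValNat_not_dvd (p := 13) (n := Nat.card ↥(D.group K)) Nat.card_pos.ne'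
    rw [hvalK] at hnd
    exact hnd h3
  -- a Sylow subgroup of `G(K)` inside the torus
  obtain ⟨S0, -⟩ : ∃ S0 : Sylow 13 ↥(chevRel C K).HS, True := ⟨Classical.arbitrary _, trivial⟩
  obtain ⟨S1, hS1⟩ : ∃ S1 : Sylow 13 ↥(D.group K),
      (S1 : Subgroup ↥(D.group K)) = (S0 : Subgroup _).map (chevRel C K).HS.subtype := by
    refine ⟨Sylow.ofCard ((S0 : Subgroup _).map (chevRel C K).HS.subtype) ?_, rfl⟩
    rw [Subgroup.card_map_of_injective (Subgroup.subtype_injective _), S0.card_eq_multiplicity]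
    refine congrArg (13 ^ ·) ?_
    rw [Nat.factorization_def _ (by norm_num : Nat.Prime 13), Nat.factorization_def _ (by norm_num : Nat.Prime 13),
      hvalH, hvalK]
  -- the Frobenius map
  obtain ⟨σ, hσ⟩ : ∃ σ : K ≃+* K, ∀ b, σ b = b ^ 2 := by
    have : CharP K 2 := charP_of_injective_algebraMap (algebraMap (ZMod 2) K).injective 2
    have hb : Function.Bijective (frobenius K 2) :=
      Finite.injective_iff_bijective.1 (RingHom.injective _)
    exact ⟨RingEquiv.ofBijective _ hb, fun b => by rw [RingEquiv.ofBijective_apply, frobenius_def]⟩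
  obtain ⟨ι, hι⟩ : ∃ ι : ZMod 2 →+* K, ι = algebraMap (ZMod 2) K := ⟨_, rfl⟩
  have hσι : ∀ c, σ (ι c) = ι c := fun c => by
    rw [hσ, ← map_pow, show c ^ 2 = c from ZMod.pow_card c]
  obtain ⟨J, hJ⟩ : ∃ J, J = CfsgLib.Known.ChevFixed.groupMap D ι := ⟨_, rfl⟩
  have hJinj : Function.Injective J := hJ ▸ CfsgLib.Known.ChevFixed.groupMap_injective ι
  obtain ⟨φ, hφ⟩ : ∃ φ, φ = fieldAut D σ := ⟨_, rfl⟩
  have hφJ : ∀ g, φ (J g) = J g := fun g => by
    rw [hφ, hJ]
    exact Subtype.ext (Units.ext (Matrix.ext fun a b => hσι _))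
  -- discrete logarithms
  obtain ⟨lgE, -⟩ : ∃ e : Additive Kˣ ≃+ ZMod 4095, True :=
    ⟨hN ▸ (MulEquiv.toAdditive (zmodCyclicMulEquiv (G := Kˣ) inferInstance).symm).trans
      (AddEquiv.additiveMultiplicative _), trivial⟩
  obtain ⟨lg, hlg⟩ : ∃ lg : Kˣ → ZMod 4095, ∀ u, lg u = lgE (Additive.ofMul u) := ⟨_, fun _ => rfl⟩
  have hlg_mul : ∀ u w, lg (u * w) = lg u + lg w := fun u w => by rw [hlg, hlg, hlg, ofMul_mul, map_add]
  have hlg_zpow : ∀ (u : Kˣ) (z : ℤ), lg (u ^ z) = (z : ZMod 4095) * lg u := fun u z => by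
    rw [hlg, hlg, ofMul_zpow, map_zsmul, zsmul_eq_mul]
  have hlg_prod : ∀ f : Fin D.rank → Kˣ, lg (∏ i, f i) = ∑ i, lg (f i) := fun f => by
    rw [hlg, ofMul_prod, map_sum]
    exact Finset.sum_congr rfl fun i _ => (hlg _).symm
  have hlg_inj : Function.Injective lg := fun u w h => by
    rw [hlg, hlg] at h
    exact Additive.ofMul.injective (lgE.injective h)
  have hlg_one : lg 1 = 0 := by rw [hlg, ofMul_one, map_zero]
  obtain ⟨val, hval⟩ : ∃ val : (Fin D.rank → Kˣ) → Fin D.nroots → Kˣ, ∀ c s,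
      val c s = ∏ i : Fin D.rank, c i ^ D.cartan i s := ⟨_, fun _ _ => rfl⟩
  obtain ⟨kc, hkc⟩ : ∃ kc : (Fin D.rank → Kˣ) → Fin D.rank → ZMod 4095, ∀ c j,
      kc c j = lg (val c ((chevRel C K).sroot j)) := ⟨_, fun _ _ => rfl⟩
  have hkc_val : ∀ c (s : Fin D.nroots), lg (val c s) = castV (ZMod 4095) (cvec D X s) ⬝ᵥ kc c := by
    intro c s
    simp only [dotProduct, hkc, hval, hlg_prod, hlg_zpow, castV, cvec, Finset.mul_sum]
    rw [Finset.sum_comm]
    refine Finset.sum_congr rfl fun i _ => ?_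
    rw [C.cartan_eq s.2 i.2, Finset.sum_range, Int.cast_sum, Finset.sum_mul]
    refine Finset.sum_congr rfl fun j _ => ?_
    rw [Int.cast_mul, mul_assoc]
    rfl
  have hkc_mul : ∀ c c', kc (c * c') = kc c + kc c' := fun c c' => funext fun j => by
    simp only [Pi.add_apply, hkc, hval, ← hlg_mul, ← Finset.prod_mul_distrib, Pi.mul_apply, mul_zpow]
  have hkc_one : kc 1 = 0 := funext fun j => by simp [hkc, hval, hlg_one]
  have hkc_pow : ∀ c (z : ℕ), kc (c ^ z) = (z : ZMod 4095) • kc c := by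
    intro c z
    induction z with
    | zero => simpa using hkc_one
    | succ z ih => rw [pow_succ, hkc_mul, ih, Nat.cast_succ, add_smul, one_smul]
  obtain ⟨T, hT⟩ : ∃ T : (Fin D.rank → Kˣ) →* ↥(D.group K),
      T = ((chevRel C K).HS.subtype).comp (chevRel C K).torusHom := ⟨_, rfl⟩
  have hTmem : ∀ c, T c ∈ (chevRel C K).HS := fun c => by rw [hT]; exact SetLike.coe_mem _
  have hTsurj : ∀ g ∈ (chevRel C K).HS, ∃ c, T c = g := fun g hg => by
    obtain ⟨c, hc⟩ := (chevRel C K).torusHom_surjective ⟨g, hg⟩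
    exact ⟨c, by rw [hT, MonoidHom.comp_apply, hc]; rfl⟩
  have hcartan : ∀ i j : Fin D.rank, ((cmat D).getD i []).getD j 0 = D.cartan i ((chevRel C K).sroot j) :=
    fun i j => by simp [cmat, List.getD_eq_getElem?_getD, i.2, j.2, Rel.sroot]
  have hTker : ∀ c, T c = 1 ↔ kc c = 0 := by
    intro c
    have h0 : T c = 1 ↔ c ∈ (chevRel C K).torusHom.ker := by
      rw [hT, MonoidHom.mem_ker, MonoidHom.comp_apply]
      exact OneMemClass.coe_eq_one
    rw [h0, mem_torusHom_ker C K c, MonoidHom.mem_ker, funext_iff, funext_iff]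
    refine forall_congr' fun j => ?_
    rw [hkc, Pi.zero_apply, Pi.one_apply, ← hlg_one, hlg_inj.eq_iff, powMat_apply, hval]
    simp only [Matrix.of_apply, hcartan]
  have hkc_eq : ∀ c c', T c = T c' ↔ kc c = kc c' := by
    intro c c'
    have h1 := hkc_mul (c / c') c'
    rw [div_mul_cancel] at h1
    rw [← div_eq_one, ← map_div, hTker, h1, add_eq_right]
  have hTmon : ∀ c, (chevRel C K).IsMon (T c) 1 fun s => ((val c s : Kˣ) : K) := fun c => by
    simp only [hval, hT]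
    exact CfsgLib.Known.TrialityTorus.isMon_torusHom (chevRel C K) c
  have hφT : ∀ c, φ (T c) = T (c ^ 2) := fun c => by
    rw [hφ, hT, MonoidHom.comp_apply, MonoidHom.comp_apply]
    refine (CfsgLib.Known.ChevFixed.fieldAut_torusHom C σ c).trans ?_
    refine congrArg (fun c => (((chevRel C K).torusHom c : (chevRel C K).HS) : ↥(D.group K))) (funext fun i => Units.ext ?_)
    simp [hσ]
  -- monomial elements act on the coordinates by their matrices
  have hconjW : ∀ (n : (chevRel C K).NS) (c d : Fin D.rank → Kˣ),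
      (n : ↥(D.group K)) * T c * (n : ↥(D.group K))⁻¹ = T d →
        castM (ZMod 4095) (wMat (chevRel C K) ((chevRel C K).nsPerm n)) *ᵥ kc d = kc c := by
    intro n c d hnd
    obtain ⟨π, hπ⟩ : ∃ π, π = (chevRel C K).nsPerm n := ⟨_, rfl⟩
    have hdval : ∀ s, val d (π s) = val c s := by
      intro s
      obtain ⟨b, hb⟩ := (chevRel C K).isMon_nsPerm n
      have h1 := (chevRel C K).isMon_mul ((chevRel C K).isMon_mul hb (hTmon c)) ((chevRel C K).isMon_inv hb)
      rw [mul_one, mul_inv_cancel, hnd] at h1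
      have h2 := congrFun ((chevRel C K).isMon_unique (hTmon d) h1).2 (π s)
      refine Units.ext (h2.trans ?_)
      have hs : ((chevRel C K).nsPerm n)⁻¹ (π s) = s := by rw [hπ, Equiv.Perm.inv_def, Equiv.symm_apply_apply]
      simp only [Equiv.Perm.one_apply, hs]
      rw [mul_comm (b s), mul_assoc, mul_inv_cancel₀ (hb s).1, mul_one]
    funext j
    show castV (ZMod 4095) (cvec D X ((chevRel C K).nsPerm n ((chevRel C K).sroot j) : ℕ)) ⬝ᵥ kc d = _
    rw [← hkc_val, ← hπ, hdval, hkc]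
  have heig : ∀ (Y : ↥(D.group K)) (x : ↥(D.group (ZMod 2))) (c : Fin D.rank → Kˣ), Y * J x * Y⁻¹ = T c →
      ∃ g : (chevRel C K).NS,
        castM (ZMod 4095) (wMat (chevRel C K) ((chevRel C K).nsPerm g)) *ᵥ kc c = (2 : ZMod 4095) • kc c := by
    intro Y x c hc
    obtain ⟨g, hg⟩ : ∃ g, g = φ Y * Y⁻¹ := ⟨_, rfl⟩
    have hconj : g * T c = φ (T c) * g := by
      rw [hg, ← hc, map_mul, map_mul, map_inv, hφJ]; group
    obtain ⟨b0, hb0, m, u, hu, hgbnu⟩ := (chevRel C K).exists_bnu g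
    obtain ⟨w, hw, h, hh, hb⟩ := (chevRel C K).exists_of_mem_BS hb0
    have hmT : (m : ↥(D.group K)) * T c * (m : ↥(D.group K))⁻¹ = φ (T c) :=
      conj_eq_of_bnu (chevRel C K) (hTmem c) (by rw [hφT]; exact hTmem _) hw hh hu
        (by rw [← hb, ← hgbnu]; exact hconj)
    refine ⟨m⁻¹, ?_⟩
    rw [hconjW m⁻¹ (c ^ 2) c (by
      rw [Subgroup.coe_inv, inv_inv, ← hφT, ← hmT]; group), hkc_pow, Nat.cast_ofNat]
  -- reductions
  obtain ⟨ρ, hρ⟩ : ∃ ρ : ZMod 4095 →+* ZMod 13, ρ = ZMod.castHom (by norm_num) _ := ⟨_, rfl⟩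
  obtain ⟨ρ5, hρ5⟩ : ∃ ρ5 : ZMod 4095 →+* ZMod 5, ρ5 = ZMod.castHom (by norm_num) _ := ⟨_, rfl⟩
  have hzero : ∀ (n : ℕ) (x : ZMod 4095), (n : ZMod 4095) * x = 0 → n * x.val % 4095 = 0 := fun n x h => by
    rw [← ZMod.natCast_zmod_val x, ← Nat.cast_mul, ZMod.natCast_eq_zero_iff] at h
    exact Nat.mod_eq_zero_of_dvd h
  have hred : ∀ {p : ℕ} (f : ZMod 4095 →+* ZMod p) (π : Equiv.Perm (Fin D.nroots)) (v : Fin D.rank → ZMod 4095),
      redMat (chevRel C K) p π *ᵥ (f ∘ v) = f ∘ (castM (ZMod 4095) (wMat (chevRel C K) π) *ᵥ v) := by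
    intro p f π v
    funext i
    simp [redMat, castM, Matrix.mulVec, dotProduct]
  -- the element of order thirteen lies in the torus
  obtain ⟨x, hx⟩ : ∃ x, x = z ^ 5 := ⟨_, rfl⟩
  have hxord : orderOf x = 13 := by rw [hx, orderOf_pow' z (by norm_num), hz]; decide
  have hxP : IsPGroup 13 ↥((Subgroup.zpowers x).map J) :=
    IsPGroup.map (IsPGroup.of_card (n := 1) (by rw [Nat.card_zpowers, hxord, pow_one])) J
  obtain ⟨P1, hP1⟩ := hxP.exists_le_sylow
  obtain ⟨Y, hY⟩ := MulAction.exists_smul_eq ↥(D.group K) P1 S1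
  have hxH : Y * J x * Y⁻¹ ∈ (chevRel C K).HS := by
    have h1 : Y * J x * Y⁻¹ ∈ (S1 : Subgroup ↥(D.group K)) := by
      rw [← hY, Sylow.coe_subgroup_smul, Subgroup.mem_pointwise_smul_iff_inv_smul_mem, MulAut.smul_def,
        ← map_inv, MulAut.conj_apply]
      simpa [mul_assoc] using hP1 (Subgroup.mem_map_of_mem J (Subgroup.mem_zpowers x))
    rw [hS1] at h1
    exact Subgroup.map_subtype_le _ h1
  obtain ⟨ct, hct⟩ := hTsurj _ hxH
  obtain ⟨g0, hg0⟩ := heig Y x ct hct.symm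
  obtain ⟨k, hk⟩ : ∃ k : Fin D.rank → ZMod 13, k = ρ ∘ kc ct := ⟨_, rfl⟩
  have hk2 : redMat (chevRel C K) 13 ((chevRel C K).nsPerm g0) *ᵥ k = (2 : ZMod 13) • k := by
    rw [hk, hred, hg0]
    funext i
    simp [map_ofNat]
  have hk0 : k ≠ 0 := by
    intro h0
    have hx1 : T ct ≠ 1 := fun h => by
      rw [hct, conj_eq_one_iff, map_eq_one_iff J hJinj] at h
      rw [h, orderOf_one] at hxord
      norm_num at hxord
    refine hx1 ((hTker ct).2 (funext fun i => ?_))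
    have h13 : (13 : ℕ) • kc ct = 0 := by
      rw [← Nat.cast_smul_eq_nsmul (ZMod 4095), ← hkc_pow, ← hTker, map_pow, hct, conj_pow, ← map_pow, ← hxord,
        pow_orderOf_eq_one, map_one, mul_one, mul_inv_cancel]
    have h1 := congrFun h13 i
    rw [Pi.smul_apply, nsmul_eq_mul, Pi.zero_apply] at h1
    have h2 := congrFun h0 i
    rw [hk, Function.comp_apply, hρ, Pi.zero_apply, ZMod.castHom_apply, ZMod.cast_eq_val,
      ZMod.natCast_eq_zero_iff] at h2
    have h3 := hzero 13 _ h1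
    rw [Pi.zero_apply, ← ZMod.val_eq_zero]
    have := ZMod.val_lt (kc ct i)
    omega
  -- elements of five-power order of the torus
  have hinj : ∀ s s' : Fin D.nroots, cvec D X s = cvec D X s' → s = s' :=
    fun s s' h => H.inj5 s s' fun i => by rw [h, sub_self]; exact dvd_zero 5
  obtain ⟨T5, hT5⟩ : ∃ T5 : Subgroup ↥(D.group K),
      ∀ g, g ∈ T5 ↔ g ∈ (chevRel C K).HS ∧ ∃ j, g ^ 5 ^ j = 1 := by
    refine ⟨{ carrier := {g | g ∈ (chevRel C K).HS ∧ ∃ j, g ^ 5 ^ j = 1}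
              one_mem' := ⟨one_mem _, 0, one_pow _⟩
              mul_mem' := ?_
              inv_mem' := ?_ }, fun g => Iff.rfl⟩
    · rintro a b ⟨ha, i, hi⟩ ⟨hb, j, hj⟩
      refine ⟨mul_mem ha hb, i + j, ?_⟩
      have hab : Commute a b := (chevRel C K).HS_isMulCommutative ha hb
      rw [hab.mul_pow, pow_add, pow_mul, hi, one_pow, one_mul, mul_comm (5 ^ i), pow_mul, hj, one_pow]
    · rintro a ⟨ha, i, hi⟩
      exact ⟨inv_mem ha, i, by rw [inv_pow, hi, inv_one]⟩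
  obtain ⟨cE, hcE⟩ : ∃ cE : Fin D.rank → Fin D.rank → Kˣ,
      ∀ a i, lg (cE a i) = ((819 * Minv a i : ℤ) : ZMod 4095) :=
    ⟨fun a i => Additive.toMul (lgE.symm _), fun a i => by rw [hlg, ofMul_toMul, AddEquiv.apply_symm_apply]⟩
  have hkE : ∀ a j, kc (cE a) j = if j = a then 819 else 0 := by
    intro a j
    rw [hkc, hval, hlg_prod]
    obtain ⟨w, hw⟩ := H.inv5 a j
    simp only [hlg_zpow, hcE, ← Int.cast_mul, ← Int.cast_sum]
    rw [Finset.sum_congr rfl fun (i : Fin D.rank) _ => show D.cartan i ((chevRel C K).sroot j) * (819 * Minv a i) =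
      819 * (Minv a i * ((cmat D).getD i []).getD j 0) by rw [hcartan]; ring, ← Finset.mul_sum, eq_add_of_sub_eq hw]
    have h5 : ((819 : ℤ) : ZMod 4095) * ((5 : ℤ) : ZMod 4095) = 0 := rfl
    split_ifs <;> push_cast <;> linear_combination (w : ZMod 4095) * h5
  have hE5 : ∀ a, T (cE a) ∈ T5 := fun a => by
    refine (hT5 _).2 ⟨hTmem _, 1, ?_⟩
    rw [pow_one, ← map_pow, hTker, hkc_pow]
    funext j
    rw [Pi.smul_apply, hkE]
    split_ifs <;> rfl
  have hlgval : ∀ a (s : Fin D.nroots), lg (val (cE a) s) = ((819 * cvec D X s a : ℤ) : ZMod 4095) := by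
    intro a s
    rw [hkc_val, dotProduct, Finset.sum_eq_single a (fun b _ hb => by rw [hkE, if_neg hb, mul_zero])
      (fun h => absurd (Finset.mem_univ a) h), hkE, if_pos rfl]
    simp [castV, mul_comm]
  have hdvd5 : ∀ v : ℤ, ((819 * v : ℤ) : ZMod 4095) = 0 → (5 : ℤ) ∣ v := fun v hv => by
    rw [ZMod.intCast_zmod_eq_zero_iff_dvd] at hv
    push_cast at hv
    omega
  -- the torus contains a Sylow subgroup of the centraliser
  obtain ⟨t, ht⟩ : ∃ t, t = T ct := ⟨_, rfl⟩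
  have hmax : ∀ (g : ↥(D.group K)), g * t = t * g → (∀ s ∈ T5, g * s * g⁻¹ ∈ T5) →
      (∃ j, g ^ 5 ^ j = 1) → g ∈ T5 := by
    intro g hgt hgn ⟨j, hj⟩
    obtain ⟨b0, hb0, n, u, hu, hgbnu⟩ := (chevRel C K).exists_bnu g
    obtain ⟨w, hw, h, hh, hb⟩ := (chevRel C K).exists_of_mem_BS hb0
    have hn : ∀ s ∈ (chevRel C K).HS, g * s * g⁻¹ ∈ (chevRel C K).HS →
        (n : ↥(D.group K)) * s * (n : ↥(D.group K))⁻¹ = g * s * g⁻¹ := by
      intro s hs hs'
      exact conj_eq_of_bnu (chevRel C K) hs hs' hw hh hu (by rw [← hb, ← hgbnu]; group)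
    have hc0 : (n : ↥(D.group K))⁻¹ * g ∈ (chevRel C K).HS := by
      refine mem_HS_of_forall_commute (chevRel C K) (fun a => T (cE a)) (fun a s => ((val (cE a) s : Kˣ) : K))
        (fun a => hTmem _) (fun a => hTmon _) (fun r => ?_) (fun m hm => ?_) (fun a => ?_)
      · obtain ⟨a, ha⟩ := H.nz5 r
        refine ⟨a, fun h1 => ha (hdvd5 _ ?_)⟩
        rw [← hlgval, Units.ext (show ((val (cE a) r : Kˣ) : K) = ((1 : Kˣ) : K) from h1), hlg_one]
      · refine (chevRel C K).mem_HS_of_nsPerm (Equiv.ext fun s => ?_)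
        rw [Equiv.Perm.one_apply]
        refine H.inj5 _ _ fun a => hdvd5 _ ?_
        have h1 := congrArg lg (Units.ext (hm a s))
        rw [hlgval, hlgval] at h1
        rw [mul_sub, Int.cast_sub, h1, sub_self]
      · have hs := hE5 a
        have h1 := hn _ (hTmem _) ((hT5 _).1 (hgn _ hs)).1
        calc (n : ↥(D.group K))⁻¹ * g * T (cE a) = (n : ↥(D.group K))⁻¹ * (g * T (cE a) * g⁻¹) * g := by group
          _ = T (cE a) * ((n : ↥(D.group K))⁻¹ * g) := by rw [← h1]; group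
    have hgN : g ∈ (chevRel C K).NS := by
      rw [show g = (n : ↥(D.group K)) * ((n : ↥(D.group K))⁻¹ * g) by rw [mul_inv_cancel_left]]
      exact mul_mem n.2 ((chevRel C K).HS_le_NS hc0)
    have hfix : redMat (chevRel C K) 13 ((chevRel C K).nsPerm ⟨g, hgN⟩) *ᵥ k = k := by
      rw [hk, hred, hconjW ⟨g, hgN⟩ ct ct (by rw [← ht]; exact mul_inv_eq_of_eq_mul hgt)]
    have : Finite (chevRel C K).WQ := inferInstance
    have hπ := nsPerm_eq_one_of_fix (chevRel C K) H.rank_le hinj hWQ hk0 hk2 hfix (j := j) (by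
      rw [← map_pow, ← map_one (chevRel C K).nsPerm]
      exact congrArg _ (Subtype.ext hj))
    exact (hT5 g).2 ⟨(chevRel C K).mem_HS_of_nsPerm hπ, j, hj⟩
  obtain ⟨Cc, hCc⟩ : ∃ Cc, Cc = Subgroup.centralizer ({t} : Set ↥(D.group K)) := ⟨_, rfl⟩
  have hmemC : ∀ g, g ∈ Cc ↔ g * t = t * g := fun g => by
    rw [hCc, Subgroup.mem_centralizer_singleton_iff]
  have hTC : T5 ≤ Cc := fun g hg => (hmemC g).2
    ((chevRel C K).HS_isMulCommutative ((hT5 g).1 hg).1 (ht ▸ hTmem ct))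
  have hT5p : IsPGroup 5 ↥(T5.subgroupOf Cc) := fun s => by
    obtain ⟨j, hj⟩ := ((hT5 _).1 s.2).2
    exact ⟨j, Subtype.ext (Subtype.ext hj)⟩
  obtain ⟨S, hS⟩ := hT5p.exists_le_sylow
  have hSeq : ∀ s : ↥Cc, s ∈ (S : Subgroup ↥Cc) → (s : ↥(D.group K)) ∈ T5 := by
    by_contra hno
    push Not at hno
    obtain ⟨s, hs, hs5⟩ := hno
    have : Group.IsNilpotent ↥(S : Subgroup ↥Cc) := S.isPGroup'.isNilpotent
    have hlt : (T5.subgroupOf Cc).subgroupOf (S : Subgroup ↥Cc) < ⊤ := lt_top_iff_ne_top.2 fun htop => hs5 (by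
      have h : (⟨s, hs⟩ : ↥(S : Subgroup ↥Cc)) ∈ (T5.subgroupOf Cc).subgroupOf (S : Subgroup ↥Cc) :=
        htop ▸ Subgroup.mem_top _
      exact h)
    obtain ⟨g, hgN, hgnot⟩ := SetLike.exists_of_lt (Group.normalizerCondition_of_isNilpotent _ hlt)
    refine hgnot (hmax _ ((hmemC _).1 (g : ↥Cc).2) (fun r hr => ?_) ?_)
    · have h := (Subgroup.mem_normalizer_iff.1 hgN ⟨⟨r, hTC hr⟩, hS (Subgroup.mem_subgroupOf.2 hr)⟩).1
        (Subgroup.mem_subgroupOf.2 (Subgroup.mem_subgroupOf.2 hr))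
      exact h
    · obtain ⟨j, hj⟩ := S.isPGroup' g
      exact ⟨j, congrArg Subtype.val (congrArg Subtype.val hj)⟩
  -- the element of order sixty-five lies in the torus
  obtain ⟨y, hy⟩ : ∃ y, y = Y * J (z ^ 13) * Y⁻¹ := ⟨_, rfl⟩
  have hyC : y ∈ Cc := by
    have hc : J (z ^ 13) * J x = J x * J (z ^ 13) := by rw [← map_mul, ← map_mul, hx, pow_mul_comm]
    rw [hmemC, ht, hct, hy]
    calc _ = Y * (J (z ^ 13) * J x) * Y⁻¹ := by group
      _ = _ := by rw [hc]; group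
  have hy5 : (⟨y, hyC⟩ : ↥Cc) ^ 5 ^ 1 = 1 := Subtype.ext (by
    show y ^ 5 ^ 1 = 1
    rw [hy, pow_one, conj_pow, ← map_pow, ← pow_mul,
      show 13 * 5 = orderOf z from hz.symm, pow_orderOf_eq_one, map_one, mul_one, mul_inv_cancel])
  obtain ⟨S2, hS2⟩ := (show IsPGroup 5 ↥(Subgroup.zpowers (⟨y, hyC⟩ : ↥Cc)) from fun s => ⟨1, by
    obtain ⟨i, hi⟩ := Subgroup.mem_zpowers_iff.1 s.2
    refine Subtype.ext ?_
    rw [Subgroup.coe_pow, ← hi, ← zpow_natCast, ← zpow_mul, mul_comm, zpow_mul, zpow_natCast, hy5, one_zpow,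
      Subgroup.coe_one]⟩).exists_le_sylow
  obtain ⟨c, hc⟩ := MulAction.exists_smul_eq ↥Cc S2 S
  have hyH : (c : ↥(D.group K)) * y * (c : ↥(D.group K))⁻¹ ∈ (chevRel C K).HS := by
    have h1 : c * ⟨y, hyC⟩ * c⁻¹ ∈ (S : Subgroup ↥Cc) := by
      rw [← hc, Sylow.coe_subgroup_smul, Subgroup.mem_pointwise_smul_iff_inv_smul_mem, MulAut.smul_def,
        ← map_inv, MulAut.conj_apply]
      simpa [mul_assoc] using hS2 (Subgroup.mem_zpowers _)
    exact ((hT5 _).1 (hSeq _ h1)).1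
  obtain ⟨Y', hY'⟩ : ∃ Y', Y' = (c : ↥(D.group K)) * Y := ⟨_, rfl⟩
  have h5H : Y' * J x * Y'⁻¹ ∈ (chevRel C K).HS := by
    have : Y' * J x * Y'⁻¹ = T ct := by
      rw [hY', ← mul_inv_cancel_right (T ct) (c : ↥(D.group K)), ← ht, ← (hmemC _).1 c.2, ht, hct]; group
    rw [this]
    exact hTmem ct
  have h13H : Y' * J (z ^ 13) * Y'⁻¹ ∈ (chevRel C K).HS := by
    convert hyH using 1
    rw [hY', hy]; group
  have hzH : Y' * J z * Y'⁻¹ ∈ (chevRel C K).HS := by
    have h := mul_mem (pow_mem h5H 8) (pow_mem h13H 2)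
    rw [conj_pow, conj_pow, ← map_pow, ← map_pow] at h
    convert h using 1
    have : z = x ^ 8 * (z ^ 13) ^ 2 := by
      rw [hx, ← pow_mul, ← pow_mul, ← pow_add, show 5 * 8 + 13 * 2 = orderOf z + 1 by rw [hz], pow_succ,
        pow_orderOf_eq_one, one_mul]
    conv_lhs => rw [this, map_mul]
    group
  obtain ⟨cz, hcz⟩ := hTsurj _ hzH
  obtain ⟨g, hgeig⟩ := heig Y' z cz hcz.symm
  obtain ⟨e, he⟩ : ∃ e, e = kc cz := ⟨_, rfl⟩
  rw [← he] at hgeig
  have he_ne : ∀ n : ℕ, (n : ZMod 4095) • e = 0 → 65 ∣ n := by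
    intro n hn
    rw [he, ← hkc_pow, ← hTker, map_pow, hcz, conj_pow, conj_eq_one_iff, ← map_pow, map_eq_one_iff J hJinj] at hn
    exact hz ▸ orderOf_dvd_of_pow_eq_one hn
  have he65 : ∀ i, (65 : ℕ) * (e i).val % 4095 = 0 := fun i => hzero 65 _ (by
    have h : (65 : ℕ) • e = 0 := by
      rw [← Nat.cast_smul_eq_nsmul (ZMod 4095), he, ← hkc_pow, ← hTker, map_pow, hcz, conj_pow, ← map_pow, ← hz,
        pow_orderOf_eq_one, map_one, mul_one, mul_inv_cancel]
    simpa using congrFun h i)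
  have hne13 : (ρ ∘ e : Fin D.rank → ZMod 13) ≠ 0 := fun h0 => by
    refine absurd (he_ne 5 (funext fun i => ?_)) (by norm_num)
    have h2 := congrFun h0 i
    rw [Function.comp_apply, hρ, Pi.zero_apply, ZMod.castHom_apply, ZMod.cast_eq_val, ZMod.natCast_eq_zero_iff] at h2
    rw [Pi.smul_apply, smul_eq_mul, Pi.zero_apply, ← ZMod.natCast_zmod_val (e i), ← Nat.cast_mul,
      ZMod.natCast_eq_zero_iff]
    exact Nat.dvd_of_mod_eq_zero (val_ne_zero_of_orderOf _ (he65 i) (Nat.mod_eq_zero_of_dvd h2))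
  have hne5 : (ρ5 ∘ e : Fin D.rank → ZMod 5) ≠ 0 := fun h0 => by
    refine absurd (he_ne 13 (funext fun i => ?_)) (by norm_num)
    have h2 := congrFun h0 i
    rw [Function.comp_apply, hρ5, Pi.zero_apply, ZMod.castHom_apply, ZMod.cast_eq_val, ZMod.natCast_eq_zero_iff] at h2
    rw [Pi.smul_apply, smul_eq_mul, Pi.zero_apply, ← ZMod.natCast_zmod_val (e i), ← Nat.cast_mul,
      ZMod.natCast_eq_zero_iff]
    exact Nat.dvd_of_mod_eq_zero (val_ne_zero_of_orderOf' _ (he65 i) (Nat.mod_eq_zero_of_dvd h2))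
  have h2e : ∀ {p : ℕ} (f : ZMod 4095 →+* ZMod p),
      redMat (chevRel C K) p ((chevRel C K).nsPerm g) *ᵥ (f ∘ e) = (2 : ZMod p) • (f ∘ e) := by
    intro p f
    rw [hred, hgeig]
    funext i
    simp [map_ofNat]
  exact false_of_eigen_pair (chevRel C K) H.rankOK H.four H.count hWQ g hne5 hne13 (h2e ρ5) (h2e ρ)

end CfsgLib.Lie.SixtyFive
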